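import Cfsg.Agent.Lib.BigPerm.Defs

/-!
# Deductions in a coset table on bit sets: the checks

The table is given by switching networks, one list of stages to a generator. For each generator a set
of points records the edges known to hold for the cosets. A pass along a relation finds all the
edges that are the only ones unknown on a cycle read by the relation.

The first 64 points are no cosets: all generators fix them and all their edges are known. The bits
there label the numbers, so that the cache of the kernel, keyed on those bits, stays quick.
-/

set_option autoImplicit false

namespace Cfsg.Lib.BigPerm.Deduce

open Cfsg.Lib.CosetEnum (force)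

/-- Act by one generator. -/
noncomputable def run (N : List (List (Nat × Nat))) (g x : Nat) : Nat := runS (N.getD g []) x

/-- Act by a word, first letter first. -/
noncomputable def runL (N : List (List (Nat × Nat))) : List Nat → Nat → Nat
  | [], x => x
  | g :: w, x => force (run N g x) fun y => runL N w y

/-- The points below `n` with a set bit. -/
noncomputable def plane (n s : Nat) : Nat := Nat.land (idPlane s) (below n)

/-- The masks are legitimate. -/
noncomputable def stagesOK (l : List (Nat × Nat)) : Bool :=
  l.all fun p => Nat.blt p.1 wExp && Nat.beq (Nat.land p.2 (zPlane p.1)) p.2

/-- A generator is an involution of the points below `n`. -/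
noncomputable def involOK (N : List (List (Nat × Nat))) (n e g : Nat) : Bool :=
  stagesOK (N.getD g []) && Nat.beq (run N g (below n)) (below n) &&
    ((List.range 64).all fun i => Nat.beq (run N g (point i)) (point i)) &&
    (List.range e).all fun s => force (plane n s) fun p => Nat.beq (runL N [g, g] p) p

/-- A set of cosets with a label in the first 64 bits. -/
noncomputable def tagged (x c : Nat) : Nat :=
  Nat.lor (Nat.xor x (Nat.land x (below 64))) (Nat.land c (below 64))

/-- The relations fix one plane of cosets, labelled in turn. -/
noncomputable def planeFrom (N : List (List (Nat × Nat))) (p : Nat) : List (List Nat) → Nat → Bool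
  | [], _ => true
  | w :: R, c => force (tagged p c) fun q => Nat.beq (runL N w q) q && force (c + 1) (planeFrom N p R)

/-- The relations fix one plane. -/
noncomputable def planeFix (N : List (List (Nat × Nat))) (n : Nat) (R : List (List Nat)) (s : Nat) : Bool :=
  force (plane n s) fun p => planeFrom N p R 1

/-- The relations use the generators. -/
def shapeOK (k : Nat) (R : List (List Nat)) : Bool := R.all fun w => w.all fun g => Nat.blt g k

/-- Define the cosets of new points: one generator, applied to the defined points in a mask
(to all of them for the mask zero). -/
noncomputable def growK (N : List (List (Nat × Nat))) :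
    List (Nat × Nat) → Nat → List Nat → (Nat → List Nat → Bool) → Bool
  | [], D, K, k => k D K
  | (g, m) :: T, D, K, k =>
    force (run N g (cond (Nat.beq m 0) D (Nat.land D m))) fun r =>
      force (Nat.xor r (Nat.land r D)) fun new =>
        force (run N g new) fun back =>
          force (Nat.lor (K.getD g 0) (Nat.lor new back)) fun kg =>
            force (Nat.lor D new) fun D' => growK N T D' (K.set g kg) k

/-- The edges at the base point. -/
noncomputable def baseK (N : List (List (Nat × Nat))) :
    List Nat → List Nat → (List Nat → Bool) → Bool
  | [], K, k => k K
  | g :: H, K, k =>
    force (point 64) fun p =>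
      Nat.beq (run N g p) p && force (Nat.lor (K.getD g 0) p) fun kg => baseK N H (K.set g kg) k

/-- A pass along a relation. -/
noncomputable def passK (N : List (List (Nat × Nat))) (all : Nat) :
    List Nat → Nat → List Nat → (Nat → List Nat → Bool) → Bool
  | [], _, K, k => k all K
  | g :: w, F, K, k =>
    force (Nat.land F (K.getD g 0)) fun f =>
      force (run N g f) fun f' =>
        passK N all w f' K fun B K' =>
          force (run N g B) fun B' =>
            force (Nat.land F B') fun new =>
              force (run N g new) fun back =>
                force (Nat.lor (K'.getD g 0) (Nat.lor new back)) fun kg =>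
                  force (Nat.land B' kg) fun out => k out (K'.set g kg)

/-- Passes along relations, labelled in turn. -/
noncomputable def passesK (N : List (List (Nat × Nat))) (R : List (List Nat)) (all : Nat) :
    List Nat → Nat → List Nat → (List Nat → Bool) → Bool
  | [], _, K, k => k K
  | i :: S, c, K, k => force (tagged all c) fun t =>
      passK N t (R.getD i []) t K fun _ K' => force (c + 1) fun c' => passesK N R all S c' K' k

/-- Equality of states. -/
def sameK : List Nat → List Nat → Bool
  | [], [] => true
  | a :: l, b :: m => Nat.beq a b && sameK l m
  | _, _ => false

/-- The first state. -/
noncomputable def startOK (N : List (List (Nat × Nat))) (k : Nat) (H : List Nat) (T : List (Nat × Nat))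
    (K₀ : List Nat) : Bool :=
  (H.all fun g => Nat.blt g k) && (T.all fun p => Nat.blt p.1 k) &&
    force (below 64) fun low => force (below 65) fun D =>
      baseK N H (List.replicate k low) fun K => growK N T D K fun _ K' => sameK K' K₀

/-- One stretch of passes. -/
noncomputable def stretchOK (N : List (List (Nat × Nat))) (R : List (List Nat)) (n : Nat)
    (S : List Nat) (K K₁ : List Nat) : Bool :=
  (S.all fun i => Nat.blt i R.length) &&
    force (below n) fun all => passesK N R all S 1 K fun K' => sameK K' K₁

/-- All edges are known. -/
noncomputable def fullOK (n k : Nat) (K : List Nat) : Bool :=
  (List.range k).all fun g => Nat.beq (K.getD g 0) (below n)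

end Cfsg.Lib.BigPerm.Deduce
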