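import Mathlib
import Cfsg.Agent.Lib.BigPerm.Sound
import Cfsg.Agent.Lib.CosetEnum.Index
import Cfsg.Agent.Lib.BigPerm.Deduce.Defs

/-!
# Deductions in a coset table on bit sets: soundness

If a group acts and some elements satisfy the relations and fix a point, then the orbit of that
point under them has at most as many points as the table.
-/

set_option autoImplicit false

namespace Cfsg.Lib.BigPerm.Deduce

open Cfsg.Lib.CosetEnum (force force_eq wordVal gen eps)

variable {N : List (List (ℕ × ℕ))} {n e k : ℕ}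

theorem testBit_pt (p i : ℕ) : (point p).testBit i = decide (i = p) := by
  change (1 <<< p).testBit i = _
  rw [Nat.one_shiftLeft, Nat.testBit_two_pow]
  simp [eq_comm]

/-- The images of the generators. -/
noncomputable def perm (N : List (List (ℕ × ℕ))) (g : ℕ) : Equiv.Perm ℕ := permS (N.getD g [])

/-- The end point of a word. -/
noncomputable def perms (N : List (List (ℕ × ℕ))) : List ℕ → Equiv.Perm ℕ
  | [] => 1
  | g :: w => perms N w * perm N g

/-- The generators act on the points below `n`. -/
structure Good (N : List (List (ℕ × ℕ))) (n e k : ℕ) : Prop where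
  bits : ∀ g < k, ∀ x i, (run N g x).testBit i = x.testBit ((perm N g)⁻¹ i)
  range : ∀ g < k, ∀ i, (perm N g i < n ↔ i < n)
  invol : ∀ g < k, ∀ i < n, perm N g (perm N g i) = i
  low : ∀ g < k, ∀ i < 64, perm N g i = i
  le : n ≤ 2 ^ e
  exp : e ≤ wExp

theorem plane_bit {s : ℕ} (hs : s < wExp) {i : ℕ} (hi : i < n) (hn : n ≤ 2 ^ wExp) :
    (plane n s).testBit i = i.testBit s := by
  change (idPlane s &&& below n).testBit i = _
  rw [Nat.testBit_and, testBit_below, testBit_idPlane hs]
  simp [hi, hi.trans_le hn]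

theorem point_ext (he : e ≤ wExp) (hn : n ≤ 2 ^ e) {i j : ℕ} (hi : i < n) (hj : j < n)
    (h : ∀ s < e, i.testBit s = j.testBit s) : i = j := by
  refine Nat.eq_of_testBit_eq fun s => ?_
  by_cases hs : s < e
  · exact h s hs
  · have h2 : ∀ t < n, t.testBit s = false := fun t ht => Nat.testBit_lt_two_pow
      (ht.trans_le (hn.trans (Nat.pow_le_pow_right (by norm_num) (by omega))))
    rw [h2 i hi, h2 j hj]

theorem runL_bit (h : ∀ g < k, ∀ x i, (run N g x).testBit i = x.testBit ((perm N g)⁻¹ i)) :
    ∀ {w : List ℕ}, (∀ g ∈ w, g < k) → ∀ x i, (runL N w x).testBit i = x.testBit ((perms N w)⁻¹ i)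
  | [], _, x, i => rfl
  | g :: w, hw, x, i => by
    rw [runL, force_eq, runL_bit h (fun a ha => hw a (List.mem_cons_of_mem _ ha)),
      h g (hw g List.mem_cons_self), perms, mul_inv_rev, Equiv.Perm.mul_apply]

/-- From the check of the generators. -/
theorem good_of_check (hn : n ≤ 2 ^ e) (he : e ≤ wExp) (h : ∀ g < k, involOK N n e g = true) :
    Good N n e k := by
  have hbits : ∀ g < k, ∀ x i, (run N g x).testBit i = x.testBit ((perm N g)⁻¹ i) := by
    intro g hg x i
    have h1 := h g hg
    simp only [involOK, stagesOK, Bool.and_eq_true, List.all_eq_true, Nat.blt_eq, Nat.beq_eq] at h1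
    refine testBit_runS (fun p hp i hi => ?_) x i
    obtain ⟨hs, hm⟩ := h1.1.1.1 p hp
    rw [← hm] at hi
    change (p.2 &&& zPlane p.1).testBit i = true at hi
    rw [Nat.testBit_and, testBit_zPlane hs] at hi
    simp only [Bool.and_eq_true, Bool.not_eq_true', decide_eq_true_eq] at hi
    exact ⟨hi.2.2, hi.2.1⟩
  have hrange : ∀ g < k, ∀ i, (perm N g i < n ↔ i < n) := by
    intro g hg i
    have h1 := h g hg
    simp only [involOK, Bool.and_eq_true, Nat.beq_eq] at h1
    have h2 := congrArg (fun x => Nat.testBit x (perm N g i)) h1.1.1.2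
    rw [hbits g hg, testBit_below, testBit_below] at h2
    simpa using h2.symm
  refine ⟨hbits, hrange, fun g hg i hi => ?_, fun g hg i hi => ?_, hn, he⟩
  rotate_left
  · have h1 := h g hg
    simp only [involOK, Bool.and_eq_true, List.all_eq_true, List.mem_range, Nat.beq_eq] at h1
    have h2 := congrArg (fun x => Nat.testBit x (perm N g i)) (h1.1.2 i hi)
    rw [hbits g hg, Equiv.Perm.inv_def, Equiv.symm_apply_apply, testBit_pt, testBit_pt] at h2
    simpa using h2
  have h1 := h g hg
  simp only [involOK, Bool.and_eq_true, List.all_eq_true, List.mem_range, force_eq, Nat.beq_eq] at h1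
  have hj : perm N g (perm N g i) < n := (hrange g hg _).2 ((hrange g hg i).2 hi)
  refine point_ext he hn hj hi fun s hs => ?_
  have h2 := congrArg (fun x => Nat.testBit x (perm N g (perm N g i))) (h1.2 s hs)
  rw [runL_bit hbits (by simp [hg])] at h2
  have hn' : n ≤ 2 ^ wExp := hn.trans (Nat.pow_le_pow_right (by norm_num) he)
  rw [plane_bit (by omega) hj hn'] at h2
  simp [perms] at h2
  rw [plane_bit (by omega) hi hn'] at h2
  exact h2.symm

namespace Good

variable (hN : Good N n e k)
include hN

theorem bit {g : ℕ} (hg : g < k) (x : ℕ) {i : ℕ} (hi : i < n) :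
    (run N g x).testBit i = x.testBit (perm N g i) := by
  rw [hN.bits g hg]
  congr 1
  exact Equiv.Perm.inv_eq_iff_eq.2 (hN.invol g hg i hi).symm

theorem perms_lt : ∀ {w : List ℕ}, (∀ g ∈ w, g < k) → ∀ i < n, perms N w i < n
  | [], _, i, hi => hi
  | g :: w, hl, i, hi => perms_lt (fun a ha => hl a (List.mem_cons_of_mem _ ha)) _
      ((hN.range g (hl g List.mem_cons_self) i).2 hi)

theorem perms_low : ∀ {w : List ℕ}, (∀ g ∈ w, g < k) → ∀ i < 64, perms N w i = i
  | [], _, i, _ => rfl
  | g :: w, hl, i, hi => by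
    rw [perms, Equiv.Perm.mul_apply, hN.low g (hl g List.mem_cons_self) i hi]
    exact perms_low (fun a ha => hl a (List.mem_cons_of_mem _ ha)) i hi

end Good

theorem testBit_tagged {x c i : ℕ} (hi : 64 ≤ i) : (tagged x c).testBit i = x.testBit i := by
  change ((x ^^^ (x &&& below 64)) ||| (c &&& below 64)).testBit i = _
  simp only [Nat.testBit_or, Nat.testBit_xor, Nat.testBit_and, testBit_below, show ¬ i < 64 by omega,
    decide_false, Bool.and_false, Bool.xor_false, Bool.or_false]

theorem planeFrom_sound {p : ℕ} : ∀ {R : List (List ℕ)} {c : ℕ}, planeFrom N p R c = true →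
    ∀ w ∈ R, ∃ d, runL N w (tagged p d) = tagged p d
  | [], _, _, w, hw => absurd hw List.not_mem_nil
  | v :: R, c, h, w, hw => by
    simp only [planeFrom, force_eq, Bool.and_eq_true, Nat.beq_eq] at h
    rcases List.mem_cons.1 hw with rfl | hw
    · exact ⟨c, h.1⟩
    · exact planeFrom_sound h.2 w hw

/-- The relations hold on the points. -/
theorem relsFix_of_planes (hN : Good N n e k) {R : List (List ℕ)} (hl : shapeOK k R = true)
    (h : ∀ s < e, planeFix N n R s = true) :
    ∀ w ∈ R, (∀ g ∈ w, g < k) ∧ ∀ i < n, perms N w i = i := by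
  intro w hw
  have hlw : ∀ g ∈ w, g < k := fun g hg => by
    simpa [Nat.blt_eq] using List.all_eq_true.1 (List.all_eq_true.1 hl w hw) g hg
  refine ⟨hlw, fun i hi => ?_⟩
  by_cases h64 : i < 64
  · exact hN.perms_low hlw i h64
  have hj : 64 ≤ perms N w i := by
    by_contra hc
    have := hN.perms_low hlw _ (not_le.1 hc)
    exact h64 (((perms N w).injective this) ▸ not_le.1 hc)
  refine point_ext hN.exp hN.le (hN.perms_lt hlw i hi) hi fun s hs => ?_
  have hp := h s hs
  simp only [planeFix, force_eq] at hp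
  obtain ⟨d, hd⟩ := planeFrom_sound hp w hw
  have h2 := congrArg (fun x => Nat.testBit x (perms N w i)) hd
  have hn' : n ≤ 2 ^ wExp := hN.le.trans (Nat.pow_le_pow_right (by norm_num) hN.exp)
  rw [runL_bit hN.bits hlw, Equiv.Perm.inv_def, Equiv.symm_apply_apply, testBit_tagged (not_lt.1 h64),
    testBit_tagged hj, plane_bit (hs.trans_le hN.exp) hi hn',
    plane_bit (hs.trans_le hN.exp) (hN.perms_lt hlw i hi) hn'] at h2
  exact h2.symm


variable {U α : Type*} [Group U] [MulAction U α]

/-- The recorded edges hold for a labelling. -/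
def Known (N : List (List (ℕ × ℕ))) (n k : ℕ) (x : ℕ → U) (φ : ℕ → α) (K : List ℕ) : Prop :=
  K.length = k ∧ ∀ g < k, ∀ i < n, (K.getD g 0).testBit i = true → φ (perm N g i) = x g • φ i

/-- The recorded edges join defined points. -/
def Joined (N : List (List (ℕ × ℕ))) (n k D : ℕ) (K : List ℕ) : Prop :=
  ∀ g < k, ∀ i < n, (K.getD g 0).testBit i = true → D.testBit i = true ∧ D.testBit (perm N g i) = true

theorem getD_set {K : List ℕ} {g : ℕ} (hg : g < K.length) (v j : ℕ) :
    (K.set g v).getD j 0 = if g = j then v else K.getD j 0 := by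
  simp only [List.getD_eq_getElem?_getD, List.getElem?_set]
  split
  · next h => subst h; simp [hg]
  · rfl

theorem testBit_out (a b : ℕ) (i : ℕ) :
    (Nat.xor a (Nat.land a b)).testBit i = (a.testBit i && !b.testBit i) := by
  change (a ^^^ (a &&& b)).testBit i = _
  rw [Nat.testBit_xor, Nat.testBit_and]
  cases a.testBit i <;> cases b.testBit i <;> rfl

variable {x : ℕ → U}

/-- Adding the edges at some points and at their images. -/
theorem Known.add (hN : Good N n e k) (hx : ∀ g, x g * x g = 1) {φ : ℕ → α} {K : List ℕ}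
    (hK : Known N n k x φ K) {g new : ℕ} (hg : g < k)
    (hnew : ∀ i < n, new.testBit i = true → φ (perm N g i) = x g • φ i) :
    Known N n k x φ (K.set g (Nat.lor (K.getD g 0) (Nat.lor new (run N g new)))) := by
  refine ⟨by rw [List.length_set, hK.1], fun j hj i hi hb => ?_⟩
  rw [getD_set (hK.1.symm ▸ hg)] at hb
  split at hb
  · next h =>
    subst h
    change (K.getD g 0 ||| (new ||| run N g new)).testBit i = true at hb
    simp only [Nat.testBit_or, Bool.or_eq_true] at hb
    rcases hb with hb | hb | hb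
    · exact hK.2 g hj i hi hb
    · exact hnew i hi hb
    · rw [hN.bit hj _ hi] at hb
      have h := hnew _ ((hN.range g hj i).2 hi) hb
      rw [hN.invol g hj i hi] at h
      rw [h, smul_smul, hx, one_smul]
  · exact hK.2 j hj i hi hb

theorem growK_sound (hN : Good N n e k) (hx : ∀ g, x g * x g = 1) {a : α} :
    ∀ {T : List (ℕ × ℕ)}, (∀ p ∈ T, p.1 < k) → ∀ {D : ℕ} {K : List ℕ} {φ : ℕ → α} {c : ℕ → List ℕ → Bool},
      Known N n k x φ K → Joined N n k D K → D.testBit 64 = true → φ 64 = a → growK N T D K c = true →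
        ∃ (φ' : ℕ → α) (D' : ℕ) (K' : List ℕ), φ' 64 = a ∧ Known N n k x φ' K' ∧ c D' K' = true
  | [], _, D, K, φ, c, hK, _, _, h0, hc => ⟨φ, D, K, h0, hK, hc⟩
  | (g, m) :: T, hT, D, K, φ, c, hK, hJ, hD, h0, hc => by
    have hg : g < k := hT (g, m) List.mem_cons_self
    simp only [growK, force_eq] at hc
    set S := cond (Nat.beq m 0) D (Nat.land D m) with hS
    have hSD : ∀ i, S.testBit i = true → D.testBit i = true := by
      intro i hi
      cases hb : Nat.beq m 0 <;> rw [hS, hb] at hi
      · simp only [cond_false] at hi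
        change (D &&& m).testBit i = true at hi
        rw [Nat.testBit_and, Bool.and_eq_true] at hi
        exact hi.1
      · exact hi
    set new := Nat.xor (run N g S) (Nat.land (run N g S) D) with hnew
    have hnewD : ∀ i, new.testBit i = true → D.testBit i = false ∧ (run N g S).testBit i = true := by
      intro i hi
      rw [hnew, testBit_out, Bool.and_eq_true] at hi
      exact ⟨by simpa using hi.2, hi.1⟩
    let φ' : ℕ → α := fun i => if new.testBit i = true ∧ i < n then x g • φ (perm N g i) else φ i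
    have hold : ∀ i, D.testBit i = true → φ' i = φ i := fun i hi => if_neg fun h => by
      rw [(hnewD i h.1).1] at hi; exact Bool.noConfusion hi
    have hsrc : ∀ i < n, new.testBit i = true → D.testBit (perm N g i) = true := fun i hi hb => by
      have h := (hnewD i hb).2
      rw [hN.bit hg _ hi] at h
      exact hSD _ h
    have hK' : Known N n k x φ' K := ⟨hK.1, fun j hj i hi hb => by
      obtain ⟨h1, h2⟩ := hJ j hj i hi hb
      rw [hold i h1, hold _ h2]; exact hK.2 j hj i hi hb⟩
    have hK'' := hK'.add hN hx hg (new := new) fun i hi hb => by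
      rw [hold _ (hsrc i hi hb)]
      show φ (perm N g i) = x g • (if new.testBit i = true ∧ i < n then x g • φ (perm N g i) else φ i)
      rw [if_pos ⟨hb, hi⟩, smul_smul, hx, one_smul]
    refine growK_sound hN hx (fun p hp => hT p (List.mem_cons_of_mem _ hp)) hK'' (fun j hj i hi hb => ?_) ?_
      (by rw [hold 64 hD]; exact h0) hc
    · rw [getD_set (hK.1.symm ▸ hg)] at hb
      show (D ||| new).testBit i = true ∧ (D ||| new).testBit (perm N j i) = true
      simp only [Nat.testBit_or, Bool.or_eq_true]
      split at hb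
      · next h =>
        subst h
        change (K.getD g 0 ||| (new ||| run N g new)).testBit i = true at hb
        simp only [Nat.testBit_or, Bool.or_eq_true] at hb
        rcases hb with hb | hb | hb
        · exact ⟨Or.inl (hJ g hj i hi hb).1, Or.inl (hJ g hj i hi hb).2⟩
        · exact ⟨Or.inr hb, Or.inl (hsrc i hi hb)⟩
        · rw [hN.bit hj _ hi] at hb
          have h := hsrc _ ((hN.range g hj i).2 hi) hb
          rw [hN.invol g hj i hi] at h
          exact ⟨Or.inl h, Or.inr hb⟩
      · exact ⟨Or.inl (hJ j hj i hi hb).1, Or.inl (hJ j hj i hi hb).2⟩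
    · show (D ||| new).testBit 64 = true
      rw [Nat.testBit_or, hD, Bool.true_or]

theorem baseK_sound (hN : Good N n e k) (hn : 64 < n) (hx : ∀ g, x g * x g = 1) {φ : ℕ → α} {D : ℕ}
    (hD : D.testBit 64 = true) :
    ∀ {H : List ℕ}, (∀ g ∈ H, g < k ∧ x g • φ 64 = φ 64) → ∀ {K : List ℕ} {c : List ℕ → Bool},
      Known N n k x φ K → Joined N n k D K → baseK N H K c = true →
        ∃ K', Known N n k x φ K' ∧ Joined N n k D K' ∧ c K' = true
  | [], _, K, c, hK, hJ, hc => ⟨K, hK, hJ, hc⟩
  | g :: H, hH, K, c, hK, hJ, hc => by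
    obtain ⟨hg, hfix⟩ := hH g List.mem_cons_self
    simp only [baseK, force_eq, Bool.and_eq_true, Nat.beq_eq] at hc
    obtain ⟨h1, hc⟩ := hc
    have hp : perm N g 64 = 64 := by
      have h2 := hN.bit hg (point 64) hn
      rw [h1, testBit_pt, testBit_pt] at h2
      simpa using h2.symm
    have hpt : ∀ i, (Nat.lor (K.getD g 0) (point 64)).testBit i = true →
        (K.getD g 0).testBit i = true ∨ i = 64 := fun i hi => by
      change (K.getD g 0 ||| point 64).testBit i = true at hi
      rw [Nat.testBit_or, Bool.or_eq_true, testBit_pt, decide_eq_true_eq] at hi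
      exact hi
    refine baseK_sound hN hn hx hD (fun a ha => hH a (List.mem_cons_of_mem _ ha)) ?_ ?_ hc
    · refine ⟨by rw [List.length_set, hK.1], fun j hj i hi hb => ?_⟩
      rw [getD_set (hK.1.symm ▸ hg)] at hb
      split at hb
      · next h =>
        subst h
        rcases hpt i hb with hb | rfl
        · exact hK.2 g hj i hi hb
        · rw [hp, hfix]
      · exact hK.2 j hj i hi hb
    · intro j hj i hi hb
      rw [getD_set (hK.1.symm ▸ hg)] at hb
      split at hb
      · next h =>
        subst h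
        rcases hpt i hb with hb | rfl
        · exact hJ g hj i hi hb
        · rw [hp]; exact ⟨hD, hD⟩
      · exact hJ j hj i hi hb

theorem passK_sound (hN : Good N n e k) (hx : ∀ g, x g * x g = 1) (hk : k ≤ eps) {φ : ℕ → α} :
    ∀ {w : List ℕ}, (∀ g ∈ w, g < k) → ∀ {E F : ℕ} {K : List ℕ} {c : ℕ → List ℕ → Bool},
      Known N n k x φ K →
      (∀ i < n, F.testBit i = true → wordVal x w • φ i = φ (perms N w i)) →
      passK N E w F K c = true →
        ∃ (B : ℕ) (K' : List ℕ), Known N n k x φ K' ∧
          (∀ i < n, B.testBit i = true → wordVal x w • φ i = φ (perms N w i)) ∧ c B K' = true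
  | [], _, E, F, K, c, hK, _, hc => ⟨E, K, hK, fun i _ _ => by simp [wordVal, perms], hc⟩
  | g :: w, hw, E, F, K, c, hK, hF, hc => by
    have hg : g < k := hw g List.mem_cons_self
    have hgen : gen x g = x g := if_neg (by omega)
    have hword : ∀ q : α, wordVal x (g :: w) • q = wordVal x w • x g • q := fun q => by
      rw [wordVal, hgen, mul_smul]
    simp only [passK, force_eq] at hc
    obtain ⟨B, K', hK', hB, hc⟩ := passK_sound hN hx hk (fun a ha => hw a (List.mem_cons_of_mem _ ha)) hK
      (fun j hj hb => by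
        rw [hN.bit hg _ hj] at hb
        change (F &&& K.getD g 0).testBit _ = true at hb
        rw [Nat.testBit_and, Bool.and_eq_true] at hb
        have hi := (hN.range g hg j).2 hj
        have h := hF _ hi hb.1
        rw [hword, ← hK.2 g hg _ hi hb.2] at h
        simp only [perms, Equiv.Perm.mul_apply, hN.invol g hg j hj] at h
        exact h) hc
    set B' := run N g B with hB'
    have hnew : ∀ i < n, (Nat.land F B').testBit i = true → φ (perm N g i) = x g • φ i := by
      intro i hi hb
      change (F &&& B').testBit i = true at hb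
      rw [Nat.testBit_and, Bool.and_eq_true, hB', hN.bit hg _ hi] at hb
      have h1 := hF i hi hb.1
      have h2 := hB _ ((hN.range g hg i).2 hi) hb.2
      rw [hword] at h1
      simp only [perms, Equiv.Perm.mul_apply] at h1
      exact smul_left_cancel (wordVal x w) (h2.trans h1.symm)
    refine ⟨_, _, hK'.add hN hx hg hnew, fun i hi hb => ?_, hc⟩
    change (B' &&& _).testBit i = true at hb
    rw [Nat.testBit_and, Bool.and_eq_true, hB', hN.bit hg _ hi] at hb
    have hg' := (hK'.add hN hx hg hnew).2 g hg i hi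
      (by rw [getD_set (hK'.1.symm ▸ hg), if_pos rfl]; exact hb.2)
    rw [hword, ← hg', perms, Equiv.Perm.mul_apply]
    exact hB _ ((hN.range g hg i).2 hi) hb.1

theorem passesK_sound (hN : Good N n e k) (hx : ∀ g, x g * x g = 1) (hk : k ≤ eps) {R : List (List ℕ)}
    (hR : ∀ w ∈ R, (∀ g ∈ w, g < k) ∧ ∀ i < n, perms N w i = i) (hrel : ∀ w ∈ R, wordVal x w = 1) {φ : ℕ → α}
    {all : ℕ} : ∀ {S : List ℕ}, (∀ i ∈ S, i < R.length) → ∀ {d : ℕ} {K : List ℕ} {c : List ℕ → Bool},
      Known N n k x φ K → passesK N R all S d K c = true → ∃ K', Known N n k x φ K' ∧ c K' = true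
  | [], _, _, K, c, hK, hc => ⟨K, hK, hc⟩
  | i :: S, hS, d, K, c, hK, hc => by
    have hi := hS i List.mem_cons_self
    have hw : R.getD i [] ∈ R := by
      rw [List.getD_eq_getElem?_getD, List.getElem?_eq_getElem hi]; exact List.getElem_mem hi
    obtain ⟨hl, hfix⟩ := hR _ hw
    simp only [passesK, force_eq] at hc
    obtain ⟨B, K', hK', -, hc⟩ := passK_sound hN hx hk hl hK
      (fun j hj _ => by rw [hrel _ hw, one_smul, hfix j hj]) hc
    exact passesK_sound hN hx hk hR hrel (fun a ha => hS a (List.mem_cons_of_mem _ ha)) hK'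
      (by simpa only [force_eq] using hc)

theorem sameK_eq : ∀ {l m : List ℕ}, sameK l m = true → l = m
  | [], [], _ => rfl
  | [], _ :: _, h => by simp [sameK] at h
  | _ :: _, [], h => by simp [sameK] at h
  | a :: l, b :: m, h => by
    rw [sameK, Bool.and_eq_true, Nat.beq_eq] at h
    rw [h.1, sameK_eq h.2]

/-- Passes carry a state to the next one. -/
theorem stretch_sound (hN : Good N n e k) (hx : ∀ g, x g * x g = 1) (hk : k ≤ eps) {R : List (List ℕ)}
    (hR : ∀ w ∈ R, (∀ g ∈ w, g < k) ∧ ∀ i < n, perms N w i = i) (hrel : ∀ w ∈ R, wordVal x w = 1) {φ : ℕ → α}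
    {S K K₁ : List ℕ}
    (hc : stretchOK N R n S K K₁ = true) (hK : Known N n k x φ K) : Known N n k x φ K₁ := by
  simp only [stretchOK, force_eq, Bool.and_eq_true, List.all_eq_true, Nat.blt_eq] at hc
  obtain ⟨K', hK', h⟩ := passesK_sound hN hx hk hR hrel hc.1 hK hc.2
  exact sameK_eq h ▸ hK'

/-- The first state holds for some labelling; the labels of the first 64 points are fixed by all. -/
theorem start_sound (hN : Good N n e k) (hn : 64 < n) (hx : ∀ g, x g * x g = 1) {H : List ℕ} {o a : α}
    (ho : ∀ g, x g • o = o) (ha : ∀ g ∈ H, x g • a = a) {T : List (ℕ × ℕ)} {K₀ : List ℕ}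
    (hc : startOK N k H T K₀ = true) : ∃ φ : ℕ → α, φ 64 = a ∧ Known N n k x φ K₀ := by
  simp only [startOK, force_eq, Bool.and_eq_true, List.all_eq_true, Nat.blt_eq] at hc
  obtain ⟨⟨hH, hT⟩, hc⟩ := hc
  let φ₀ : ℕ → α := fun i => if i < 64 then o else a
  have hz : ∀ g < k, ∀ i, ((List.replicate k (below 64)).getD g 0).testBit i = decide (i < 64) := fun g hg i => by
    rw [List.getD_eq_getElem?_getD, List.getElem?_replicate, if_pos hg]; exact testBit_below 64 i
  have hD : (below 65).testBit 64 = true := by rw [testBit_below]; rfl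
  obtain ⟨K', hK', hJ', hc⟩ := baseK_sound hN hn hx (φ := φ₀) (D := below 65) hD
    (fun g hg => ⟨hH g hg, by simpa [φ₀] using ha g hg⟩)
    (K := List.replicate k (below 64)) ⟨List.length_replicate, fun g hg i _ hb => by
      rw [hz g hg i, decide_eq_true_eq] at hb
      simp [φ₀, hN.low g hg i hb, hb, ho]⟩
    (fun g hg i _ hb => by
      rw [hz g hg i, decide_eq_true_eq] at hb
      rw [hN.low g hg i hb, testBit_below]
      simp; omega) hc
  obtain ⟨φ, D, K'', h0, hK'', hc⟩ := growK_sound hN hx hT hK' hJ' hD (a := a) (by simp [φ₀]) hc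
  exact ⟨φ, h0, sameK_eq hc ▸ hK''⟩

/-- If all edges are known, the labels cover the orbit. -/
theorem orbit_subset (hN : Good N n e k) (hn : 64 < n) {K : List ℕ} (hf : fullOK n k K = true) {φ : ℕ → α}
    (hK : Known N n k x φ K) :
    MulAction.orbit (Subgroup.closure (x '' {g | g < k})) (φ 64) ⊆ φ '' Set.Ico 64 n := by
  have hstep : ∀ g < k, ∀ i < n, φ (perm N g i) = x g • φ i := fun g hg i hi =>
    hK.2 g hg i hi (by
      simp only [fullOK, List.all_eq_true, List.mem_range, Nat.beq_eq] at hf
      rw [hf g hg, testBit_below, decide_eq_true hi])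
  have hmv : ∀ g < k, ∀ i ∈ Set.Ico 64 n, perm N g i ∈ Set.Ico 64 n := fun g hg i hi => by
    refine ⟨?_, (hN.range g hg i).2 hi.2⟩
    by_contra hc
    have h := hN.low g hg _ (not_le.1 hc)
    have := hi.1
    rw [(perm N g).injective h] at hc
    exact hc this
  rintro _ ⟨⟨u, hu⟩, rfl⟩
  show u • φ 64 ∈ φ '' Set.Ico 64 n
  suffices ∀ q ∈ φ '' Set.Ico 64 n, u • q ∈ φ '' Set.Ico 64 n from this _ ⟨64, ⟨le_rfl, hn⟩, rfl⟩
  induction hu using Subgroup.closure_induction'' with
  | mem y hy =>
    obtain ⟨g, hg, rfl⟩ := hy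
    rintro _ ⟨i, hi, rfl⟩
    exact ⟨_, hmv g hg i hi, hstep g hg i hi.2⟩
  | inv_mem y hy =>
    obtain ⟨g, hg, rfl⟩ := hy
    rintro _ ⟨i, hi, rfl⟩
    refine ⟨_, hmv g hg i hi, ?_⟩
    rw [eq_inv_smul_iff, ← hstep g hg _ ((hN.range g hg i).2 hi.2), hN.invol g hg i hi.2]
  | one => exact fun q hq => by rwa [one_smul]
  | mul y z _ _ hy hz => exact fun q hq => by rw [mul_smul]; exact hy _ (hz _ hq)

/-- The orbit is no larger than the table. -/
theorem orbit_card_le (hN : Good N n e k) (hn : 64 < n) {K : List ℕ} (hf : fullOK n k K = true)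
    {φ : ℕ → α} (hK : Known N n k x φ K) :
    Nat.card (MulAction.orbit (Subgroup.closure (x '' {g | g < k})) (φ 64)) ≤ n - 64 := by
  rw [Nat.card_coe_set_eq]
  exact (Set.ncard_le_ncard (orbit_subset hN hn hf hK) ((Set.finite_Ico _ _).image φ)).trans
    ((Set.ncard_image_le (Set.finite_Ico _ _)).trans (by simp [Set.ncard_eq_toFinset_card']))

end Cfsg.Lib.BigPerm.Deduce
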